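import Groth.Agent.MultBridge.Chart
import Groth.Agent.MonoFibre.MultType
import Groth.Agent.FixedSmooth.Cover
/-!
Flat closed subgroups of groups of multiplicative type.
-/

set_option autoImplicit false
set_option backward.isDefEq.respectTransparency false
set_option backward.isDefEq.respectTransparency.types false
set_option linter.style.haveILetI false
set_option linter.unusedSectionVars false

universe u

open CategoryTheory CategoryTheory.Limits MonoidalCategory CartesianMonoidalCategory MonObj GrpObj AlgebraicGeometry TensorProduct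
open scoped TensorProduct

noncomputable section

namespace Groth.Agent.MultBridge

open TorusField

variable {S : Scheme.{u}}

/-- An étale splitting of a chart gives a local splitting. -/
theorem exists_split_of_etale {H : Over S} [GrpObj H] {R : Type u} [CommRing R] {g : Spec (CommRingCat.of R) ⟶ S}
    [IsOpenImmersion g] {C : Type u} [CommRing C] [HopfAlgebra R C] [Algebra.FiniteType R C]
    (eC : specGrp R C ≅ Grp.mk (Red.bc g H)) (s : S) (p : PrimeSpectrum R) (hp : g p = s)
    (B : Type u) [CommRing B] [Algebra R B] [Algebra.Etale R B] (Q : Ideal B) [Q.IsPrime]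
    (hQ : Q.comap (algebraMap R B) = p.asIdeal) (hd : SGA3b.IsDiag B (B ⊗[R] C)) :
    ∃ (S' : Scheme.{u}) (f : S' ⟶ S), Flat f ∧ LocallyOfFinitePresentation f ∧ s ∈ Set.range f.base ∧
      ∃ (M : Type) (_ : AddCommGroup M), AddGroup.FG M ∧ Nonempty (Grp.mk (Red.bc f H) ≅ Grp.mk (Red.DS S' M)) := by
  let c := Spec.map (CommRingCat.ofHom (algebraMap R B))
  haveI : Flat c := by
    rw [HasRingHomProperty.Spec_iff (P := @Flat)]
    exact RingHom.flat_algebraMap_iff.2 inferInstance
  haveI : LocallyOfFinitePresentation c := by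
    rw [HasRingHomProperty.Spec_iff (P := @LocallyOfFinitePresentation)]
    exact RingHom.finitePresentation_algebraMap.2 inferInstance
  haveI : Nontrivial B := ⟨0, 1, fun h => ‹Q.IsPrime›.ne_top ((Ideal.eq_top_iff_one Q).2 (h ▸ Q.zero_mem))⟩
  refine ⟨Spec (CommRingCat.of B), c ≫ g, inferInstance, inferInstance, ⟨(⟨Q, inferInstance⟩ : PrimeSpectrum B), ?_⟩,
    split_of_isDiag eC B hd rfl⟩
  show g (c (⟨Q, inferInstance⟩ : PrimeSpectrum B)) = s
  rw [show c (⟨Q, inferInstance⟩ : PrimeSpectrum B) = p from PrimeSpectrum.ext hQ, hp]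

/-- A closed subgroup of an affine group is given by a surjection. -/
theorem exists_surjective_of_isClosedImmersion {R : Type u} [CommRing R] {A C : Type u} [CommRing A] [HopfAlgebra R A]
    [CommRing C] [HopfAlgebra R C] {G G' : Over (Spec (CommRingCat.of R))} [GrpObj G] [GrpObj G']
    (eA : specGrp R A ≅ Grp.mk G') (eC : specGrp R C ≅ Grp.mk G) (k : G ⟶ G') [IsMonHom k]
    [IsClosedImmersion k.left] : ∃ φ : A →ₐc[R] C, Function.Surjective φ := by
  let Φ : (hopfSpec (CommRingCat.of R)).obj (Opposite.op (CommHopfAlgCat.of R C)) ⟶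
      (hopfSpec (CommRingCat.of R)).obj (Opposite.op (CommHopfAlgCat.of R A)) :=
    eC.hom ≫ Grp.ofHom (A := G) (B := G') k ≫ eA.inv
  let q := (hopfSpec.fullyFaithful (R := CommRingCat.of R)).preimage Φ
  have hq : (hopfSpec (CommRingCat.of R)).map q = Φ := (hopfSpec.fullyFaithful (R := CommRingCat.of R)).map_preimage Φ
  let φ : A →ₐc[R] C := q.unop.hom
  refine ⟨φ, ?_⟩
  let m := CommRingCat.ofHom (φ : A →ₐ[R] C).toRingHom
  have hm : Spec.map m = eC.hom.hom.hom.left ≫ k.left ≫ eA.inv.hom.hom.left :=
    congrArg (fun k => k.hom.hom.left) hq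
  haveI : IsIso eC.hom.hom.hom.left := ((Grp.forget _ ⋙ Over.forget _).mapIso eC).isIso_hom
  haveI : IsIso eA.inv.hom.hom.left := ((Grp.forget _ ⋙ Over.forget _).mapIso eA).isIso_inv
  haveI : IsClosedImmersion (Spec.map m) := by rw [hm]; infer_instance
  have h := (IsClosedImmersion.isAffine_surjective_of_isAffine (f := Spec.map m)).2
  intro c
  obtain ⟨a, ha⟩ := h ((Scheme.ΓSpecIso (CommRingCat.of C)).inv c)
  refine ⟨(Scheme.ΓSpecIso (CommRingCat.of A)).hom a, ?_⟩
  have e := congrArg (fun k => k.hom a) (Scheme.ΓSpecIso_naturality m)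
  simp only [CommRingCat.hom_comp, RingHom.comp_apply] at e
  show m.hom ((Scheme.ΓSpecIso (CommRingCat.of A)).hom a) = c
  refine e.symm.trans ((congrArg _ ha).trans ?_)
  exact congrArg (fun k => k.hom c) (Scheme.ΓSpecIso (CommRingCat.of C)).inv_hom_id

/-- A flat closed subgroup of finite presentation is of multiplicative type. -/
theorem isMultTypeFT_closedSubgroup {H H' : Over S} [GrpObj H] [GrpObj H'] (hH' : SGA3x.IsMultTypeFT H')
    (i : H ⟶ H') [IsMonHom i] [IsClosedImmersion i.left] [Flat H.hom] [LocallyOfFinitePresentation H.hom] :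
    SGA3x.IsMultTypeFT H := by
  haveI : IsAffineHom H'.hom :=
    FixedSmooth.isAffineHom_of_isMultTypeLoc (WeilClosedLib.IsMultTypeLoc.of_isMultTypeFT hH')
  haveI : LocallyOfFiniteType H'.hom := MonoFibre.locallyOfFiniteType_of_isMultTypeFT H' hH'
  haveI : IsAffineHom H.hom := by
    rw [← Over.w i]
    infer_instance
  refine isMultTypeFT_of_local fun s => ?_
  obtain ⟨V, hV, hsV, -⟩ := exists_isAffineOpen_mem_and_subset (x := s) (U := ⊤) trivial
  obtain ⟨R, _, g, hg, hs⟩ : ∃ (R : Type u) (_ : CommRing R) (g : Spec (CommRingCat.of R) ⟶ S),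
      IsOpenImmersion g ∧ s ∈ Set.range g :=
    ⟨Γ(S, V), inferInstance, hV.fromSpec, inferInstance, (Set.ext_iff.1 hV.range_fromSpec s).2 hsV⟩
  obtain ⟨p, hp⟩ := hs
  haveI : IsAffineHom (Red.bc g H).hom := inferInstanceAs (IsAffineHom (pullback.snd H.hom g))
  haveI : IsAffineHom (Red.bc g H').hom := inferInstanceAs (IsAffineHom (pullback.snd H'.hom g))
  obtain ⟨A, _, _, ⟨eA⟩⟩ := exists_hopf R (Red.bc g H')
  obtain ⟨C, _, _, ⟨eC⟩⟩ := exists_hopf R (Red.bc g H)
  haveI hAft : Algebra.FiniteType R A := by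
    have h := prop_algebraMap eA @LocallyOfFiniteType (inferInstanceAs (LocallyOfFiniteType (pullback.snd H'.hom g)))
    rw [HasRingHomProperty.Spec_iff (P := @LocallyOfFiniteType)] at h
    exact RingHom.finiteType_algebraMap.1 h
  haveI hCfp : Algebra.FinitePresentation R C := by
    have h := prop_algebraMap eC @LocallyOfFinitePresentation
      (inferInstanceAs (LocallyOfFinitePresentation (pullback.snd H.hom g)))
    rw [HasRingHomProperty.Spec_iff (P := @LocallyOfFinitePresentation)] at h
    exact RingHom.finitePresentation_algebraMap.1 h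
  haveI hCfl : Module.Flat R C := by
    have h := prop_algebraMap eC @Flat (inferInstanceAs (Flat (pullback.snd H.hom g)))
    rw [HasRingHomProperty.Spec_iff (P := @Flat)] at h
    exact RingHom.flat_algebraMap_iff.1 h
  haveI : IsClosedImmersion ((Over.pullback g).map i).left :=
    MorphismProperty.of_isPullback (P := @IsClosedImmersion) (FixedSmooth.isPullback_bc g i) ‹IsClosedImmersion i.left›
  obtain ⟨φ, hφ⟩ := exists_surjective_of_isClosedImmersion eA eC ((Over.pullback g).map i)
  obtain ⟨B, _, _, P, _, _, _, hd⟩ := exists_flat_split eA hH' p.asIdeal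
  obtain ⟨E, _, _, Q, _, _, hQ, hE⟩ := exists_etale_split_of_quot φ hφ p.asIdeal B P hd
  exact exists_split_of_etale eC s p hp E Q hQ hE

end Groth.Agent.MultBridge
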