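import Groth.Agent.MultFib.Main
import Groth.Agent.MultType.Fibre
import Groth.Agent.MultType.Cocomm
/-!
Flat quotients of groups of multiplicative type, point by point.
-/

set_option autoImplicit false
set_option linter.style.haveILetI false
set_option linter.unusedSectionVars false

universe u

open TensorProduct SGA3b IsLocalRing
open scoped TensorProduct

noncomputable section

namespace Groth.Agent.MultBridge

/-- A quotient of a diagonalisable algebra over a field is diagonalisable. -/
theorem isDiag_of_surjective {K : Type u} [Field K] {A C : Type u} [CommRing A] [HopfAlgebra K A] [CommRing C]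
    [HopfAlgebra K C] (hA : IsDiag K A) (φ : A →ₐc[K] C) (hφ : Function.Surjective φ) : IsDiag K C := by
  obtain ⟨M, _, ⟨e⟩⟩ := hA
  let G : MonoidAlgebra K M →ₐc[K] C := φ.comp (e.symm : MonoidAlgebra K M →ₐc[K] A)
  let θ : M →* C := ((G : MonoidAlgebra K M →ₐ[K] C).toMonoidHom).comp (MonoidAlgebra.of K M)
  have hgl : ∀ m, IsGroupLikeElem K (θ m) := fun m => (MonoidAlgebra.isGroupLikeElem_single_one m).map G
  refine MultType.isDiag_of_hom θ hgl (eq_top_iff.2 fun z _ => ?_)
    (linearIndepOn_isGroupLikeElem.mono (by rintro _ ⟨m, rfl⟩; exact hgl m))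
  obtain ⟨y, rfl⟩ := (hφ.comp (EquivLike.surjective e.symm)) z
  show G y ∈ _
  induction y using MonoidAlgebra.induction_linear with
  | zero => simp
  | add a b ha hb => rw [map_add]; exact Submodule.add_mem _ (ha trivial) (hb trivial)
  | single m r =>
    rw [show (MonoidAlgebra.single m r : MonoidAlgebra K M) = r • MonoidAlgebra.single m 1 by simp, map_smul]
    exact Submodule.smul_mem _ _ (Submodule.subset_span ⟨m, rfl⟩)

/-- Base change of a bialgebra homomorphism. -/
abbrev tmap {R : Type u} [CommRing R] (T : Type u) [CommRing T] [Algebra R T] {A C : Type u} [CommRing A]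
    [HopfAlgebra R A] [CommRing C] [HopfAlgebra R C] (φ : A →ₐc[R] C) : T ⊗[R] A →ₐc[T] T ⊗[R] C :=
  Bialgebra.TensorProduct.map (BialgHom.id T T) φ

theorem tmap_surjective {R : Type u} [CommRing R] (T : Type u) [CommRing T] [Algebra R T] {A C : Type u}
    [CommRing A] [HopfAlgebra R A] [CommRing C] [HopfAlgebra R C] (φ : A →ₐc[R] C) (hφ : Function.Surjective φ) :
    Function.Surjective (tmap T φ) := by
  intro z
  induction z using TensorProduct.induction_on with
  | zero => exact ⟨0, map_zero _⟩
  | tmul r c =>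
    obtain ⟨a, rfl⟩ := hφ c
    exact ⟨r ⊗ₜ a, rfl⟩
  | add p q hp hq =>
    obtain ⟨a, rfl⟩ := hp
    obtain ⟨b, rfl⟩ := hq
    exact ⟨a + b, map_add _ a b⟩

theorem isMultType_of_surjective_field {K : Type u} [Field K] {A C : Type u} [CommRing A] [HopfAlgebra K A]
    [CommRing C] [HopfAlgebra K C] (hA : IsMultType K A) (φ : A →ₐc[K] C) (hφ : Function.Surjective φ) :
    IsMultType K C := by
  obtain ⟨c, hu⟩ := MultType.exists_ff_chart hA
  haveI : Nontrivial c.R' := nontrivial_of_ne (1 : c.R') 0 fun h1 => by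
    haveI : Subsingleton c.R' := subsingleton_of_zero_eq_one h1.symm
    haveI : Subsingleton (c.R' ⊗[K] K) := Module.subsingleton c.R' _
    exact one_ne_zero (α := K) (c.eq_zero_of_isUnit hu (N := K) (x := 1) (Subsingleton.elim _ _))
  obtain ⟨P, hP⟩ := Ideal.exists_maximal c.R'
  letI : Field (c.R' ⧸ P) := Ideal.Quotient.field P
  refine MultType.isMultType_of_ff (c.R' ⧸ P) (isDiag_of_surjective ?_ (tmap _ φ) (tmap_surjective _ φ hφ))
  exact MultType.isDiag_of_algHom (Ideal.Quotient.mkₐ K P) ⟨c.M, inferInstance, ⟨c.e⟩⟩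

theorem isCocomm_of_surjective {R : Type u} [CommRing R] {A C : Type u} [CommRing A] [HopfAlgebra R A] [CommRing C]
    [HopfAlgebra R C] [Coalgebra.IsCocomm R A] (φ : A →ₐc[R] C) (hφ : Function.Surjective φ) :
    Coalgebra.IsCocomm R C := by
  refine ⟨LinearMap.ext fun c => ?_⟩
  obtain ⟨a, rfl⟩ := hφ c
  show TensorProduct.comm R C C (Coalgebra.comul (φ a)) = Coalgebra.comul (φ a)
  rw [← CoalgHomClass.map_comp_comul_apply, ← TensorProduct.map_comm, Coalgebra.comm_comul]

theorem torsion_finite_of_surjective {R : Type u} [CommRing R] {A C : Type u} [CommRing A] [HopfAlgebra R A]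
    [CommRing C] [HopfAlgebra R C] (φ : A →ₐc[R] C) (hφ : Function.Surjective φ) (n : ℕ)
    (h : Module.Finite R (A ⧸ torsionIdeal R A n)) : Module.Finite R (C ⧸ torsionIdeal R C n) := by
  let f : A →ₐ[R] C ⧸ torsionIdeal R C n := (Ideal.Quotient.mkₐ R _).comp (φ : A →ₐ[R] C)
  have hle : torsionIdeal R A n ≤ RingHom.ker f := by
    refine MultType.torsionIdeal_le_iff.2 fun a => ?_
    show Ideal.Quotient.mk _ (φ (powConv R A n a - algebraMap R A (Coalgebra.counit a))) = 0
    rw [Ideal.Quotient.eq_zero_iff_mem, map_sub, AlgHomClass.commutes,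
      show φ (powConv R A n a) = powConv R C n (φ a) from MultType.map_powConv φ n a,
      ← CoalgHomClass.counit_comp_apply φ a]
    exact MultType.powConv_sub_mem n (φ a)
  refine Module.Finite.of_surjective (Ideal.Quotient.liftₐ _ f hle).toLinearMap fun z => ?_
  obtain ⟨c, rfl⟩ := Ideal.Quotient.mk_surjective z
  obtain ⟨a, rfl⟩ := hφ c
  exact ⟨Ideal.Quotient.mk _ a, rfl⟩

/-- A flat finitely presented quotient of a locally diagonalisable group splits étale-locally. -/
theorem exists_etale_split_of_quot {R : Type u} [CommRing R] {A C : Type u} [CommRing A] [HopfAlgebra R A]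
    [CommRing C] [HopfAlgebra R C] [Algebra.FiniteType R A] [Algebra.FinitePresentation R C] [Module.Flat R C]
    (φ : A →ₐc[R] C) (hφ : Function.Surjective φ) (p : Ideal R) [p.IsPrime]
    (B : Type u) [CommRing B] [Algebra R B] [Module.Flat R B] (P : Ideal B) [P.IsPrime] [P.LiesOver p]
    (hd : IsDiag B (B ⊗[R] A)) :
    ∃ (S : Type u) (_ : CommRing S) (_ : Algebra R S) (Q : Ideal S),
      Algebra.Etale R S ∧ Q.IsPrime ∧ Q.comap (algebraMap R S) = p ∧ IsDiag S (S ⊗[R] C) := by
  let Rp := Localization.AtPrime p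
  let Bp := Localization.AtPrime P
  letI : Algebra Rp Bp := Localization.AtPrime.algebraOfLiesOver p P
  haveI : IsScalarTower R Rp Bp := inferInstance
  haveI : Module.Flat Rp Bp := inferInstance
  haveI : IsLocalHom (algebraMap Rp Bp) := inferInstance
  haveI : Module.FaithfullyFlat Rp Bp := Module.FaithfullyFlat.of_flat_of_isLocalHom
  have hAp : IsMultType Rp (Rp ⊗[R] A) := MultType.isMultType_of_ff Bp
    (MultType.isDiag_congr (MultType.cbc (R := R) (A := A) Rp Bp).symm
      (MultType.isDiag_of_algHom (IsScalarTower.toAlgHom R B Bp) hd))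
  have hAk : IsMultType p.ResidueField (p.ResidueField ⊗[R] A) := MultType.isMultType_of_ff P.ResidueField
    (MultType.isDiag_congr (MultType.cbc (R := R) (A := A) p.ResidueField P.ResidueField).symm
      (MultType.isDiag_of_algHom (IsScalarTower.toAlgHom R B P.ResidueField) hd))
  have hCk := isMultType_of_surjective_field hAk (tmap p.ResidueField φ) (tmap_surjective _ φ hφ)
  refine MultFib.exists_etale_split_local p hCk ?_
  haveI := MultType.isCocomm_of_isMultType hAp
  haveI := isCocomm_of_surjective (tmap Rp φ) (tmap_surjective _ φ hφ)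
  refine MultFib.isMultType_of_torsion_finite ?_ ?_ fun n hn =>
    torsion_finite_of_surjective (tmap Rp φ) (tmap_surjective _ φ hφ) n
      (MultType.finite_quot_torsionIdeal hAp inferInstance n hn)
  · intro q _ _
    exact Module.Flat.trans Rp (Rp ⊗[R] C) _
  · obtain ⟨c, hu⟩ := MultType.exists_ff_chart hCk
    haveI : Module.FaithfullyFlat p.ResidueField c.R' := c.faithfullyFlat hu
    exact MultType.isMultType_of_ff c.R' (MultType.isDiag_congr
      (MultFib.mapEquiv c.R' (MultType.cbc (R := R) (A := C) Rp p.ResidueField).symm) ⟨c.M, inferInstance, ⟨c.e⟩⟩)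

end Groth.Agent.MultBridge
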