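import Groth.Agent.TorusField.Bridge
import Groth.Agent.HomDesc.BaseChange
import Groth.Agent.MultBridge.Alg
/-!
Between schemes of multiplicative type and Hopf algebras.
-/

set_option autoImplicit false
set_option backward.isDefEq.respectTransparency false
set_option backward.isDefEq.respectTransparency.types false
set_option linter.style.haveILetI false
set_option linter.unusedSectionVars false

universe u

open CategoryTheory CategoryTheory.Limits MonoidalCategory CartesianMonoidalCategory MonObj GrpObj AlgebraicGeometry TensorProduct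
open scoped TensorProduct

noncomputable section

namespace Groth.Agent.MultBridge

open TorusField

/-- An affine group over an affine base is Spec of a Hopf algebra. -/
theorem exists_hopf (R : Type u) [CommRing R] (T : Over (Spec (CommRingCat.of R))) [GrpObj T] [IsAffineHom T.hom] :
    ∃ (A : Type u) (_ : CommRing A) (_ : HopfAlgebra R A), Nonempty (specGrp R A ≅ Grp.mk T) := by
  haveI : IsAffine T.left := isAffine_of_isAffineHom T.hom
  obtain ⟨H, ⟨e⟩⟩ := (essImage_hopfSpec (R := CommRingCat.of R) (G := Grp.mk T)).2 (inferInstanceAs (IsAffine T.left))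
  exact ⟨H.unop, inferInstance, inferInstance, ⟨e⟩⟩

/-- The structure map of Spec of a Hopf algebra inherits properties. -/
theorem prop_algebraMap {R : Type u} [CommRing R] {A : Type u} [CommRing A] [HopfAlgebra R A]
    {T : Over (Spec (CommRingCat.of R))} [GrpObj T] (e : specGrp R A ≅ Grp.mk T) (P : MorphismProperty Scheme.{u})
    [P.RespectsIso] (h : P T.hom) : P (Spec.map (CommRingCat.ofHom (algebraMap R A))) :=
  FixedSmooth.hom_of_grpIso (A := (specGrp R A).X) (B := T) e P h

/-- A finitely generated group in any universe has a small model. -/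
theorem exists_small_fg (N : Type u) [CommGroup N] [Group.FG N] :
    ∃ (M : Type) (_ : AddCommGroup M), AddGroup.FG M ∧ Nonempty (N ≃* Multiplicative M) := by
  haveI : Module.Finite ℤ (Additive N) := Module.Finite.iff_addGroup_fg.2 inferInstance
  obtain ⟨n, f, hf⟩ := Module.Finite.exists_fin' ℤ (Additive N)
  let e := (f.quotKerEquivOfSurjective hf).symm.toAddEquiv
  exact ⟨(Fin n → ℤ) ⧸ LinearMap.ker f, inferInstance, Module.Finite.iff_addGroup_fg.1 inferInstance,
    ⟨(MulEquiv.multiplicativeAdditive N).symm.trans (AddEquiv.toMultiplicative e)⟩⟩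

/-- A quasi-compact open above an affine open, for an open surjection. -/
theorem exists_compact_open_image {X Y : Scheme.{u}} (f : X ⟶ Y) [UniversallyOpen f]
    (hf : Function.Surjective f.base) {V : Y.Opens} (hV : IsAffineOpen V) :
    ∃ W : X.Opens, IsCompact (W : Set X) ∧ f.base '' (W : Set X) = (V : Set Y) := by
  classical
  have h : ∀ v : V, ∃ W : X.Opens, IsAffineOpen W ∧ W ≤ f ⁻¹ᵁ V ∧ (v : Y) ∈ f.base '' (W : Set X) := fun v => by
    obtain ⟨x, hx⟩ := hf (v : Y)
    obtain ⟨W, hW, hxW, hle⟩ := exists_isAffineOpen_mem_and_subset (x := x) (U := f ⁻¹ᵁ V) (show f.base x ∈ V by rw [hx]; exact v.2)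
    exact ⟨W, hW, hle, x, hxW, hx⟩
  choose W hW hle hmem using h
  obtain ⟨t, ht⟩ := hV.isCompact.elim_finite_subcover (fun v => f.base '' (W v : Set X))
    (fun v => f.isOpenMap _ (W v).isOpen) fun y hy => Set.mem_iUnion.2 ⟨⟨y, hy⟩, hmem ⟨y, hy⟩⟩
  refine ⟨⨆ v ∈ t, W v, ?_, ?_⟩
  · simp only [TopologicalSpace.Opens.coe_iSup]
    exact t.isCompact_biUnion fun v _ => (hW v).isCompact
  · simp only [TopologicalSpace.Opens.coe_iSup, Set.image_iUnion]
    refine subset_antisymm (Set.iUnion₂_subset fun v _ => ?_) ht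
    rintro _ ⟨x, hx, rfl⟩
    exact hle v hx

variable {S : Scheme.{u}} {H : Over S} [GrpObj H] {R : Type u} [CommRing R] {g : Spec (CommRingCat.of R) ⟶ S}
  {A : Type u} [CommRing A] [HopfAlgebra R A] (eA : specGrp R A ≅ Grp.mk (Red.bc g H))

section
include eA

variable (B : Type u) [CommRing B] [Algebra R B]

/-- The base change of the chart. -/
def chartIso {d : Spec (CommRingCat.of B) ⟶ S} (hd : Spec.map (CommRingCat.ofHom (algebraMap R B)) ≫ g = d) :
    specGrp B (B ⊗[R] A) ≅ Grp.mk (Red.bc d H) :=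
  (bcSpecIso R B A).symm ≪≫ bcMapIso _ eA ≪≫ HomDesc.bcGrpIso _ g hd H

/-- A split Hopf algebra gives a split group. -/
theorem split_of_isDiag [Nontrivial B] [Algebra.FiniteType R A] (hB : SGA3b.IsDiag B (B ⊗[R] A))
    {d : Spec (CommRingCat.of B) ⟶ S} (hd : Spec.map (CommRingCat.ofHom (algebraMap R B)) ≫ g = d) :
    ∃ (M : Type) (_ : AddCommGroup M), AddGroup.FG M ∧
      Nonempty (Grp.mk (Red.bc d H) ≅ Grp.mk (Red.DS (Spec (CommRingCat.of B)) M)) := by
  obtain ⟨N, _, ⟨e⟩⟩ := hB
  haveI := MultType.fg_of_finiteType (R := R) inferInstance e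
  obtain ⟨M, _, hM, ⟨θ⟩⟩ := exists_small_fg N
  exact ⟨M, inferInstance, hM, ⟨(chartIso eA B hd).symm ≪≫
    (specIso (e.trans (MonoidAlgebra.domCongrBialgEquiv B B θ))).symm ≪≫ (dsIso B M).symm⟩⟩

/-- A split group gives a split Hopf algebra. -/
theorem isDiag_of_split {M : Type} [AddCommGroup M]
    {d : Spec (CommRingCat.of B) ⟶ S} (hd : Spec.map (CommRingCat.ofHom (algebraMap R B)) ≫ g = d)
    (e : Grp.mk (Red.bc d H) ≅ Grp.mk (Red.DS (Spec (CommRingCat.of B)) M)) : SGA3b.IsDiag B (B ⊗[R] A) := by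
  obtain ⟨e'⟩ := nonempty_bialgEquiv ((dsIso B M).symm ≪≫ e.symm ≪≫ (chartIso eA B hd).symm)
  exact ⟨ULift.{u} (Multiplicative M), inferInstance,
    ⟨e'.trans (MonoidAlgebra.domCongrBialgEquiv B B MulEquiv.ulift.symm)⟩⟩

end

/-- Restricting a splitting. -/
theorem split_comp {T T' : Scheme.{u}} {c : T ⟶ S} {M : Type} [AddCommGroup M]
    (e : Grp.mk (Red.bc c H) ≅ Grp.mk (Red.DS T M)) (k : T' ⟶ T) {d : T' ⟶ S} (hd : k ≫ c = d) :
    Nonempty (Grp.mk (Red.bc d H) ≅ Grp.mk (Red.DS T' M)) :=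
  ⟨(HomDesc.bcGrpIso k c hd H).symm ≪≫ bcMapIso k e ≪≫
    HomDesc.bcGrpIso k _ (IsTerminal.hom_ext specULiftZIsTerminal _ _) (Red.diag (ULift.{u} ℤ) M)⟩

include eA in
/-- Over each prime of a chart a group of multiplicative type splits after a flat extension. -/
theorem exists_flat_split (hH : SGA3x.IsMultTypeFT H) (p : Ideal R) [p.IsPrime] :
    ∃ (B : Type u) (_ : CommRing B) (_ : Algebra R B) (P : Ideal B),
      Module.Flat R B ∧ P.IsPrime ∧ P.LiesOver p ∧ SGA3b.IsDiag B (B ⊗[R] A) := by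
  obtain ⟨S', f, hfl, hsurj, -, hloc⟩ := HomDesc.isMultTypeFT_bc g hH
  obtain ⟨s', hs'⟩ := f.surjective (⟨p, inferInstance⟩ : PrimeSpectrum R)
  obtain ⟨U, hsU, M, _, -, ⟨e⟩⟩ := hloc s'
  obtain ⟨W, hW, hsW, hWU⟩ := exists_isAffineOpen_mem_and_subset (x := s') (U := U) hsU
  let B := Γ(S', W)
  let c : Spec B ⟶ Spec (CommRingCat.of R) := hW.fromSpec ≫ f
  let β := Spec.preimage c
  letI : Algebra R B := β.hom.toAlgebra
  have hβ : Spec.map (CommRingCat.ofHom (algebraMap R B)) = c := Spec.map_preimage c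
  haveI : Flat c := inferInstance
  have hflat : Module.Flat R B := by
    have h : Flat (Spec.map β) := by rw [Spec.map_preimage]; infer_instance
    rw [HasRingHomProperty.Spec_iff (P := @Flat)] at h
    exact h
  obtain ⟨P, hP⟩ : s' ∈ Set.range hW.fromSpec := by rw [hW.range_fromSpec]; exact hsW
  refine ⟨B, inferInstance, inferInstance, P.asIdeal, hflat, P.isPrime, ⟨?_⟩, ?_⟩
  · have h1 : Spec.map β P = (⟨p, inferInstance⟩ : PrimeSpectrum R) := by
      rw [Spec.map_preimage]
      show f (hW.fromSpec P) = _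
      rw [hP, hs']
    exact (congrArg PrimeSpectrum.asIdeal h1).symm
  · let k : Spec B ⟶ U.toScheme := hW.isoSpec.inv ≫ S'.homOfLE hWU
    obtain ⟨e'⟩ := split_comp (H := Red.bc g H) e k (d := c) (by
      show (hW.isoSpec.inv ≫ S'.homOfLE hWU) ≫ U.ι ≫ f = (hW.isoSpec.inv ≫ W.ι) ≫ f
      rw [Category.assoc, Scheme.homOfLE_ι_assoc, Category.assoc])
    exact isDiag_of_split eA B (d := c ≫ g) (by rw [hβ])
      ((HomDesc.bcGrpIso c g rfl H).symm ≪≫ e')

/-- Multiplicative type is local for flat finitely presented covers. -/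
theorem isMultTypeFT_of_local
    (h : ∀ s : S, ∃ (S' : Scheme.{u}) (f : S' ⟶ S), Flat f ∧ LocallyOfFinitePresentation f ∧ s ∈ Set.range f.base ∧
      ∃ (M : Type) (_ : AddCommGroup M), AddGroup.FG M ∧ Nonempty (Grp.mk (Red.bc f H) ≅ Grp.mk (Red.DS S' M))) :
    SGA3x.IsMultTypeFT H := by
  choose X f hfl hfp hmem M hMg hM hiso using h
  let F : ∐ X ⟶ S := Sigma.desc f
  haveI : IsZariskiLocalAtSource (@Flat.{u}) :=
    HasRingHomProperty.instIsZariskiLocalAtSource.{u} (Q := RingHom.Flat)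
  haveI : IsZariskiLocalAtSource (@LocallyOfFinitePresentation.{u}) :=
    HasRingHomProperty.instIsZariskiLocalAtSource.{u} (Q := RingHom.FinitePresentation)
  haveI : Flat F := IsZariskiLocalAtSource.sigmaDesc hfl
  haveI : LocallyOfFinitePresentation F := IsZariskiLocalAtSource.sigmaDesc hfp
  have hsurj : Function.Surjective F.base := fun s => by
    obtain ⟨x, hx⟩ := hmem s
    refine ⟨Sigma.ι X s x, ?_⟩
    erw [← Scheme.Hom.comp_apply, Sigma.ι_desc]
    exact hx
  refine ⟨∐ X, F, inferInstance, ⟨hsurj⟩, fun V hV => ?_, fun x => ?_⟩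
  · obtain ⟨W, hWc, hW⟩ := exists_compact_open_image F hsurj hV
    exact ⟨W, hWc, hW⟩
  · obtain ⟨y, hy⟩ := (sigmaOpenCover X).covers x
    let s := (sigmaOpenCover X).idx x
    refine ⟨(Sigma.ι X s).opensRange, ⟨y, hy⟩, M s, hMg s, hM s, ?_⟩
    obtain ⟨e⟩ := hiso s
    letI := hMg s
    refine split_comp e (Sigma.ι X s).isoOpensRange.inv ?_
    rw [← cancel_epi (Sigma.ι X s).isoOpensRange.hom]
    simp [F]

end Groth.Agent.MultBridge
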